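import Groth.Prelude.Def_ArtFun
import Groth.Agent.ArtFree.Basic

/-! Deformations of modules with scalar endomorphisms: endomorphisms are scalars. -/

set_option autoImplicit false

universe u v w w'

namespace Groth.Agent.DefModLib

open IsLocalRing TensorProduct

theorem free_of_flat {R : Type u} [CommRing R] [IsLocalRing R] {M : Type v} [AddCommGroup M] [Module R M]
    [Module.Flat R M] (h : IsNilpotent (maximalIdeal R)) : Module.Free R M := by
  classical
  let k := ResidueField R
  let w := Module.Free.chooseBasis k (k ⊗[R] M)
  obtain ⟨v, hv⟩ := (TensorProduct.mk_surjective R M k IsLocalRing.residue_surjective).comp_left w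
  have hli : LinearIndependent R v :=
    Module.IsLocalRing.linearIndependent_of_flat v (by
      show LinearIndependent k (TensorProduct.mk R k M 1 ∘ v)
      have hv' : TensorProduct.mk R k M 1 ∘ v = w := hv
      rw [hv']
      exact w.linearIndependent)
  refine Module.Free.of_basis (Module.Basis.mk hli (ge_of_eq (ArtFree.eq_top_of_sup_smul_eq_top h ?_)))
  rw [eq_top_iff]
  intro x _
  have hx : (1 : k) ⊗ₜ[R] x ∈ (Submodule.span R (Set.range w) : Submodule R (k ⊗[R] M)) := by
    rw [← Submodule.restrictScalars_span R k IsLocalRing.residue_surjective, w.span_eq]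
    trivial
  rw [show Set.range w = TensorProduct.mk R k M 1 '' Set.range v by rw [← Set.range_comp]; exact congrArg Set.range hv.symm,
    ← Submodule.map_span] at hx
  obtain ⟨y, hy, hyx⟩ := hx
  rw [← add_sub_cancel y x]
  refine Submodule.add_mem_sup hy ?_
  rw [← LinearMap.ker_tensorProductMk, LinearMap.mem_ker, map_sub, sub_eq_zero]
  exact hyx.symm

theorem exists_scalar {K : Type u} [Field K] {D : Type v} [Ring D] [Algebra K D]
    {E : Type w} [AddCommGroup E] [Module K E] [Module D E] [IsScalarTower K D E] [Nontrivial E]
    (hE : ∀ ψ : E →ₗ[D] E, ∃ c : K, ∀ y : E, ψ y = c • y) (R : ArtFun.Art K K)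
    {F : Type w'} [AddCommGroup F] [Module K F] [Module R F] [Module D F]
    [IsScalarTower K R F] [IsScalarTower K D F] [SMulCommClass R D F] [Module.Flat R F]
    (θ : F →ₗ[D] E) (hθ : ∀ (r : R) (x : F), θ (r • x) = R.res r • θ x) (hsurj : Function.Surjective θ)
    (hker : ∀ x : F, θ x = 0 ↔ x ∈ maximalIdeal R • (⊤ : Submodule R F))
    (φ : F →ₗ[R] F) (hφ : ∀ (d : D) (x : F), φ (d • x) = d • φ x) :
    ∃! r : R, ∀ x : F, φ x = r • x := by
  classical
  obtain ⟨N, hN⟩ := isArtinianRing_iff_isNilpotent_maximalIdeal R |>.mp inferInstance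
  haveI : Module.Free R F := free_of_flat ⟨N, hN⟩
  let b := Module.Free.chooseBasis R F
  have hmem : ∀ (J : Ideal R) (z : F), z ∈ J • (⊤ : Submodule R F) → ∀ i, b.repr z i ∈ J := by
    intro J z hz i
    refine Submodule.smul_induction_on hz (fun a ha y _ => ?_) (fun x y hx hy => ?_)
    · rw [map_smul, Finsupp.smul_apply, smul_eq_mul]; exact J.mul_mem_right _ ha
    · rw [map_add, Finsupp.add_apply]; exact add_mem hx hy
  have hmem' : ∀ (J : Ideal R) (z : F), (∀ i, b.repr z i ∈ J) → z ∈ J • (⊤ : Submodule R F) := by
    intro J z h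
    rw [← b.linearCombination_repr z, Finsupp.linearCombination_apply]
    exact Submodule.sum_mem _ fun i _ => Submodule.smul_mem_smul (h i) trivial
  have hresm : ∀ a : R, a ∈ maximalIdeal R ↔ R.res a = 0 := fun a => by
    rw [← RingHom.mem_ker, IsLocalRing.eq_maximalIdeal (RingHom.ker_isMaximal_of_surjective _ R.res_surjective)]
  have hindep : ∀ (c : Module.Free.ChooseBasisIndex R F →₀ K), c.sum (fun i a => a • θ (b i)) = 0 → c = 0 := by
    intro c hc
    let z : F := c.sum fun i a => algebraMap K R a • b i
    have hz : θ z = 0 := by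
      rw [← hc, map_finsuppSum]
      exact Finsupp.sum_congr fun i _ => by rw [hθ, AlgHom.commutes]; rfl
    ext i
    have h1 := hmem _ z ((hker z).mp hz) i
    have h2 : b.repr z i = algebraMap K R (c i) := by
      simp only [z, map_finsuppSum, map_smul, Module.Basis.repr_self, Finsupp.smul_single', mul_one,
        Finsupp.sum_apply, Finsupp.single_apply]
      rw [Finsupp.sum_ite_eq']
      split_ifs with h
      · rfl
      · rw [Finsupp.notMem_support_iff.mp h, map_zero]
    rw [h2, hresm, AlgHom.commutes] at h1
    exact h1
  obtain ⟨i₀⟩ : Nonempty (Module.Free.ChooseBasisIndex R F) := by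
    by_contra h
    rw [not_nonempty_iff] at h
    obtain ⟨e, he⟩ := exists_ne (0 : E)
    obtain ⟨x, rfl⟩ := hsurj e
    exact he (by rw [show x = 0 from b.ext_elem (fun i => isEmptyElim i), map_zero])
  have key : ∀ n, ∃ r : R, ∀ x, φ x - r • x ∈ maximalIdeal R ^ n • (⊤ : Submodule R F) := by
    intro n
    induction n with
    | zero => exact ⟨0, fun x => by simp⟩
    | succ n ih =>
      obtain ⟨r, hr⟩ := ih
      let ψ : F →ₗ[R] F := φ - r • LinearMap.id
      have hψD : ∀ (d : D) x, ψ (d • x) = d • ψ x := fun d x => by
        simp only [ψ, LinearMap.sub_apply, LinearMap.smul_apply, LinearMap.id_apply, hφ, smul_sub, ← smul_comm r d x]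
      have hψm : ∀ x, ψ x ∈ maximalIdeal R ^ n • (⊤ : Submodule R F) := hr
      have main : ∀ lam : R →ₗ[K] K, (∀ a ∈ maximalIdeal R ^ (n + 1), lam a = 0) →
          ∃ c : K, ∀ i l, lam (b.repr (ψ (b i)) l) = if i = l then c else 0 := by
        intro lam hlam
        let τ : F → E := fun z => (b.repr z).sum fun l a => lam a • θ (b l)
        have τadd : ∀ y z, τ (y + z) = τ y + τ z := fun y z => by
          simp only [τ, map_add]
          exact Finsupp.sum_add_index (by simp) (by simp [add_smul])
        have τ0 : τ 0 = 0 := by simp [τ]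
        have τsmul : ∀ a ∈ maximalIdeal R ^ n, ∀ y, τ (a • y) = lam a • θ y := by
          intro a ha y
          have hy : θ y = (b.repr y).sum fun l e => R.res e • θ (b l) := by
            conv_lhs => rw [← b.linearCombination_repr y, Finsupp.linearCombination_apply, map_finsuppSum]
            exact Finsupp.sum_congr fun l _ => hθ _ _
          show (b.repr (a • y)).sum _ = _
          rw [map_smul, hy, Finsupp.smul_sum, Finsupp.sum_smul_index' (fun i => by simp)]
          refine Finsupp.sum_congr fun l _ => ?_
          rw [smul_smul]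
          congr 1
          have he : a * (b.repr y l) - R.res (b.repr y l) • a ∈ maximalIdeal R ^ (n + 1) := by
            rw [Algebra.smul_def, mul_comm (algebraMap K R _), ← mul_sub, pow_succ]
            exact Ideal.mul_mem_mul ha ((hresm _).mpr (by rw [map_sub, AlgHom.commutes]; exact sub_self _))
          have := hlam _ he
          rw [map_sub, map_smul, sub_eq_zero] at this
          rw [smul_eq_mul, this, smul_eq_mul, mul_comm]
        have τzero : ∀ z ∈ maximalIdeal R ^ (n + 1) • (⊤ : Submodule R F), τ z = 0 := fun z hz =>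
          Finset.sum_eq_zero fun l _ => by
            show lam (b.repr z l) • θ (b l) = 0
            rw [hlam _ (hmem _ z hz l), zero_smul]
        have τD : ∀ (d : D), ∀ z ∈ maximalIdeal R ^ n • (⊤ : Submodule R F), τ (d • z) = d • τ z := by
          intro d z hz
          refine Submodule.smul_induction_on hz (fun a ha y _ => ?_) (fun x y hx hy => ?_)
          · haveI : SMulCommClass K D E := IsScalarTower.to_smulCommClass (R := K) (A := D) (M := E)
            rw [← smul_comm a d y, τsmul a ha, τsmul a ha, map_smul, smul_comm]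
          · rw [smul_add, τadd, τadd, hx, hy, smul_add]
        have hwd : ∀ x x', θ x = θ x' → τ (ψ x) = τ (ψ x') := by
          intro x x' h
          have h1 : x - x' ∈ maximalIdeal R • (⊤ : Submodule R F) := (hker _).mp (by rw [map_sub, h, sub_self])
          have h2 : ψ (x - x') ∈ maximalIdeal R ^ (n + 1) • (⊤ : Submodule R F) := by
            refine Submodule.smul_induction_on h1 (fun a ha y _ => ?_) (fun p q hp hq => ?_)
            · rw [map_smul, pow_succ', Submodule.mul_smul]
              exact Submodule.smul_mem_smul ha (hψm y)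
            · rw [map_add]; exact add_mem hp hq
          calc τ (ψ x) = τ (ψ (x - x') + ψ x') := by rw [← map_add, sub_add_cancel]
            _ = τ (ψ x') := by rw [τadd, τzero _ h2, zero_add]
        let g : E →ₗ[D] E :=
          { toFun := fun e => τ (ψ (Function.surjInv hsurj e))
            map_add' := fun e e' => by
              rw [← τadd, ← map_add]
              exact hwd _ _ (by simp [Function.surjInv_eq hsurj])
            map_smul' := fun d e => by
              rw [RingHom.id_apply, ← τD d _ (hψm _), ← hψD]
              exact hwd _ _ (by simp [Function.surjInv_eq hsurj]) }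
        obtain ⟨c, hc⟩ := hE g
        refine ⟨c, fun i l => ?_⟩
        have h1 : τ (ψ (b i)) = c • θ (b i) :=
          (hwd _ _ (Function.surjInv_eq hsurj _).symm).trans (hc (θ (b i)))
        have h2 := hindep ((b.repr (ψ (b i))).mapRange lam (map_zero _) - Finsupp.single i c) (by
          rw [Finsupp.sum_sub_index (by simp [sub_smul]), Finsupp.sum_mapRange_index (by simp),
            Finsupp.sum_single_index (by simp), sub_eq_zero]
          exact h1)
        have h3 := DFunLike.congr_fun h2 l
        rw [Finsupp.sub_apply, Finsupp.mapRange_apply, Finsupp.zero_apply, sub_eq_zero, Finsupp.single_apply] at h3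
        exact h3
      refine ⟨r + b.repr (ψ (b i₀)) i₀, fun x => ?_⟩
      have hb : ∀ i, ψ (b i) - b.repr (ψ (b i₀)) i₀ • b i ∈ maximalIdeal R ^ (n + 1) • (⊤ : Submodule R F) := by
        refine fun i => hmem' _ _ fun l => ?_
        by_contra hnot
        obtain ⟨lam, hlam0, hlam⟩ := Submodule.exists_le_ker_of_notMem
          (p := (maximalIdeal R ^ (n + 1)).restrictScalars K) hnot
        apply hlam0
        obtain ⟨c, hc⟩ := main lam fun a ha => hlam ha
        simp only [map_sub, map_smul, Finsupp.sub_apply, Finsupp.smul_apply, Module.Basis.repr_self,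
          Finsupp.single_apply, smul_eq_mul, mul_ite, mul_one, mul_zero]
        rw [hc i l]
        split_ifs with h
        · rw [hc i₀ i₀, if_pos rfl, sub_self]
        · rw [map_zero, sub_zero]
      let χ : F →ₗ[R] F := ψ - b.repr (ψ (b i₀)) i₀ • LinearMap.id
      have hx : χ x ∈ maximalIdeal R ^ (n + 1) • (⊤ : Submodule R F) := by
        rw [← b.linearCombination_repr x, Finsupp.linearCombination_apply, map_finsuppSum]
        exact Submodule.sum_mem _ fun i _ => by
          show χ (_ • b i) ∈ _
          rw [map_smul]; exact Submodule.smul_mem _ _ (hb i)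
      have hχ : χ x = φ x - (r + b.repr (ψ (b i₀)) i₀) • x := by
        show φ x - r • x - b.repr (ψ (b i₀)) i₀ • x = φ x - (r + b.repr (ψ (b i₀)) i₀) • x
        rw [add_smul, sub_add_eq_sub_sub]
      rwa [hχ] at hx
  obtain ⟨r, hr⟩ := key N
  have hr' : ∀ x, φ x = r • x := fun x => sub_eq_zero.mp (by
    have := hr x
    rwa [hN, Ideal.zero_eq_bot, Submodule.bot_smul, Submodule.mem_bot] at this)
  refine ⟨r, hr', fun s hs => ?_⟩
  have := congrArg (fun z => b.repr z i₀) ((hs (b i₀)).symm.trans (hr' (b i₀)))
  simpa using this

end Groth.Agent.DefModLib
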